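import Groth.Agent.FFLib.Trace.Lattice
import Groth.Agent.FFLib.Ext
import Mathlib.RingTheory.Valuation.LocalSubring
import Mathlib.RingTheory.Trace.Basic
import Mathlib.RingTheory.IntegralClosure.IntegralRestrict

/-! The trace formula for residues at a place. -/

set_option linter.style.haveILetI false
set_option maxHeartbeats 400000

namespace Groth.Agent.FFLib

open FunFld WithZero

universe u v

variable {k : Type u} {K : Type v} {K' : Type*} [Field k] [Field K] [Field K'] [Algebra k K] [Algebra K K']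
  [Algebra k K'] [IsScalarTower k K K'] [FiniteDimensional K K']

/-- Elements integral at all places above `P` are integral over `O_P`. -/
theorem exists_monic_of_le_one (hF : IsFF k K) (P : Place k K) {z : K'}
    (hz : ∀ Q : Place k K', IsOver Q P → Q.1 z ≤ 1) :
    ∃ p : Polynomial P.O, p.Monic ∧ p.eval₂ ((algebraMap K K').comp P.O.subtype) z = 0 := by
  classical
  let g : P.O →+* K' := (algebraMap K K').comp P.O.subtype
  have hmem : z ∈ (integralClosure (Subring.closure (Set.range g)) K').toSubring := by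
    rw [← iInf_valuationSubring_superset, Subring.mem_iInf]
    rintro ⟨V, hV⟩
    show z ∈ V
    have hV' : ∀ y : K, P.1 y ≤ 1 → algebraMap K K' y ∈ V := fun y hy => hV ⟨⟨y, hy⟩, rfl⟩
    by_cases htop : V = ⊤
    · rw [htop]; trivial
    obtain ⟨Q, hQ⟩ := exists_place_of_valuationSubring hF.ext V
      (fun c => by
        rw [IsScalarTower.algebraMap_apply k K K']
        exact hV' _ (P.2.1 c)) htop
    rw [← hQ]
    obtain ⟨P', e, he1, he⟩ := exists_over hF Q
    have : P = P' := place_eq_of_le fun y hy => by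
      have h1 : algebraMap K K' y ∈ Q.O := by rw [hQ]; exact hV' y hy
      have h2 : P'.1 y ^ e ≤ 1 := (he y) ▸ h1
      exact (pow_le_one_iff (by have := over_pos hF he; omega)).mp h2
    exact hz Q ⟨e, this ▸ he⟩
  have hcl : Subring.closure (Set.range g) = g.range := by
    rw [← RingHom.coe_range, Subring.closure_eq]
  obtain ⟨p, hp, hpz⟩ := (hmem : IsIntegral (Subring.closure (Set.range g)) z)
  have hg : Function.Injective g := (algebraMap K K').injective.comp Subtype.val_injective
  let e : P.O ≃+* g.range := RingEquiv.ofBijective g.rangeRestrict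
    ⟨fun a b h => hg (congrArg Subtype.val h), g.rangeRestrict_surjective⟩
  let h : Subring.closure (Set.range g) →+* P.O := e.symm.toRingHom.comp (Subring.inclusion hcl.le)
  refine ⟨p.map h, hp.map h, ?_⟩
  rw [Polynomial.eval₂_map, show g.comp h = algebraMap (Subring.closure (Set.range g)) K' from
    RingHom.ext fun c => congrArg Subtype.val (e.apply_symm_apply (Subring.inclusion hcl.le c))]
  exact hpz

/-- The trace of an element integral at all places above `P` is integral at `P`. -/
theorem trace_le_one (hF : IsFF k K) (P : Place k K) {z : K'}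
    (hz : ∀ Q : Place k K', IsOver Q P → Q.1 z ≤ 1) : P.1 (Algebra.trace K K' z) ≤ 1 := by
  obtain ⟨p, hp, hpz⟩ := exists_monic_of_le_one hF P hz
  letI : Algebra P.O K' := ((algebraMap K K').comp P.O.subtype).toAlgebra
  haveI : IsScalarTower P.O K K' := IsScalarTower.of_algebraMap_eq fun _ => rfl
  have hint : IsIntegral P.O z := ⟨p, hp, hpz⟩
  have h := Algebra.isIntegral_trace (L := K) (F := K') hint
  obtain ⟨⟨y, hy⟩, hyz⟩ := IsIntegrallyClosed.isIntegral_iff.mp h
  rw [← hyz]
  exact hy

variable [Algebra.IsSeparable K K']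

/-- Small elements have integral coordinates. -/
theorem exists_coord_bound (hF : IsFF k K) (P : Place k K) (Qs : Finset (Place k K'))
    (hQs : ∀ Q, Q ∈ Qs ↔ IsOver Q P) {I : Type*} [Fintype I] (b : Module.Basis I K K') :
    ∃ M : ℕ, ∀ z : K', (∀ Q ∈ Qs, Q.1 z ≤ exp (-(M : ℤ))) → ∀ i, P.1 (b.repr z i) ≤ 1 := by
  classical
  let bd := (Algebra.traceForm K K').dualBasis (traceForm_nondegenerate K K') b
  let M : ℕ := (Qs ×ˢ (Finset.univ : Finset I)).sup fun p => (-p.1.ord (bd p.2)).toNat
  refine ⟨M, fun z hz i => ?_⟩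
  have hrep : b.repr z i = Algebra.trace K K' (bd i * z) := by
    conv_rhs => rw [← b.sum_repr z, Finset.mul_sum, map_sum]
    rw [Finset.sum_eq_single i]
    · rw [mul_smul_comm, map_smul]
      have := LinearMap.BilinForm.apply_dualBasis_left (B := Algebra.traceForm K K')
        (traceForm_nondegenerate K K') b i i
      rw [Algebra.traceForm_apply, if_pos rfl] at this
      rw [this, smul_eq_mul, mul_one]
    · intro j _ hji
      rw [mul_smul_comm, map_smul]
      have := LinearMap.BilinForm.apply_dualBasis_left (B := Algebra.traceForm K K')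
        (traceForm_nondegenerate K K') b i j
      rw [Algebra.traceForm_apply, if_neg hji] at this
      rw [this, smul_zero]
    · simp
  rw [hrep]
  refine trace_le_one hF P fun Q hQ => ?_
  have hQ' := (hQs Q).mpr hQ
  rw [map_mul]
  rcases eq_or_ne (bd i) 0 with h0 | h0
  · rw [h0, map_zero, zero_mul]; exact zero_le
  refine (mul_le_mul' le_rfl (hz Q hQ')).trans ?_
  rw [val_eq_exp Q h0, ← exp_add, ← exp_zero, exp_le_exp]
  have : (-Q.ord (bd i)).toNat ≤ M :=
    Finset.le_sup (f := fun p : Place k K' × I => (-p.1.ord (bd p.2)).toNat)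
      (Finset.mk_mem_product hQ' (Finset.mem_univ i))
  omega

omit [Algebra.IsSeparable K K'] in
/-- A basis integral at the places above `P`. -/
theorem exists_integral_basis (hF : IsFF k K) (P : Place k K) (Qs : Finset (Place k K'))
    (hQs : ∀ Q, Q ∈ Qs ↔ IsOver Q P) :
    ∃ b : Module.Basis (Fin (Module.finrank K K')) K K', ∀ Q ∈ Qs, ∀ i, Q.1 (b i) ≤ 1 := by
  classical
  let b := Module.finBasis K K'
  obtain ⟨t, ht0, ht⟩ := exists_unif P
  let N : ℕ := (Qs ×ˢ (Finset.univ : Finset (Fin (Module.finrank K K')))).sup fun p => (-p.1.ord (b p.2)).toNat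
  refine ⟨b.unitsSMul fun _ => Units.mk0 (t ^ N) (pow_ne_zero _ ht0), fun Q hQ i => ?_⟩
  obtain ⟨e, he⟩ := (hQs Q).mp hQ
  have he1 := over_pos hF he
  rw [Module.Basis.unitsSMul_apply, Units.smul_def, Algebra.smul_def, map_mul, Units.val_mk0, map_pow,
    map_pow, he, ht, val_eq_exp Q (b.ne_zero i), ← exp_nsmul, ← exp_nsmul, ← exp_add, ← exp_zero, exp_le_exp]
  have h1 : (-Q.ord (b i)).toNat ≤ N :=
    Finset.le_sup (f := fun p : Place k K' × Fin (Module.finrank K K') => (-p.1.ord (b p.2)).toNat)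
      (Finset.mk_mem_product hQ (Finset.mem_univ i))
  simp only [nsmul_eq_mul, mul_neg, mul_one]
  have : (N : ℤ) ≤ (N : ℤ) * e := le_mul_of_one_le_right (by positivity) (by omega)
  omega

/-- The matrix operator. -/
def matOp {n : ℕ} (A : Fin n → Fin n → K) : (Fin n → K) →ₗ[k] (Fin n → K) :=
  LinearMap.pi fun i => ∑ j, LinearMap.mulLeft k (A i j) ∘ₗ LinearMap.proj j

omit [Field K'] [Algebra K K'] [Algebra k K'] [IsScalarTower k K K'] [FiniteDimensional K K']
  [Algebra.IsSeparable K K'] in
theorem matOp_apply {n : ℕ} (A : Fin n → Fin n → K) (c : Fin n → K) (i : Fin n) :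
    matOp (k := k) A c i = ∑ j, A i j * c j := by
  show (∑ j, LinearMap.mulLeft k (A i j) ∘ₗ LinearMap.proj j) c = _
  rw [LinearMap.sum_apply]
  rfl

omit [Field K'] [Algebra K K'] [Algebra k K'] [IsScalarTower k K K'] [FiniteDimensional K K']
  [Algebra.IsSeparable K K'] in
/-- Residue of a matrix against a scalar. -/
theorem tres_matrix {n : ℕ} (P : Place k K) (A : Fin n → Fin n → K) (v : K) (ρ : K →+ k)
    (hρ : ∀ c : K, TRes (ball P 0) c v (ρ c)) :
    IsTRes (piMap' fun _ : Fin n => (ball P 0).subtype) (matOp A)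
      (piMap' fun _ : Fin n => LinearMap.mulLeft k v) (ρ (∑ i, A i i)) := by
  classical
  set ι := piMap' fun _ : Fin n => (ball P 0).subtype
  set f := matOp (k := k) A
  set g := piMap' fun _ : Fin n => LinearMap.mulLeft k v
  have hfa : ∀ c i, f c i = ∑ j, A i j * c j := matOp_apply A
  choose T S₀ hT hS₀ hTS using hρ
  let S := S₀ 0
  have hS : IsLift (ball P 0).subtype (LinearMap.mulLeft k v) S := hS₀ 0
  let T' : (Fin n → ball P 0) →ₗ[k] (Fin n → ball P 0) :=
    ∑ i, ∑ j, (LinearMap.single k (fun _ : Fin n => ball P 0) i ∘ₗ T (A i j)) ∘ₗ LinearMap.proj j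
  have hT'a : ∀ c i, T' c i = ∑ j, T (A i j) (c j) := fun c i => by
    simp only [T', LinearMap.sum_apply, Finset.sum_apply, LinearMap.comp_apply, LinearMap.single_apply,
      LinearMap.proj_apply]
    rw [Finset.sum_eq_single i]
    · exact Finset.sum_congr rfl fun j _ => Pi.single_eq_same _ _
    · intro i' _ hne
      exact Finset.sum_eq_zero fun j _ => Pi.single_eq_of_ne hne.symm _
    · simp
  let S' : (Fin n → ball P 0) →ₗ[k] (Fin n → ball P 0) := piMap' fun _ : Fin n => S
  have hliftT : IsLift ι f T' := by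
    show FinRank _
    rw [show f ∘ₗ ι - ι ∘ₗ T' = ∑ i, ∑ j, (LinearMap.single k (fun _ : Fin n => K) i ∘ₗ
        (LinearMap.mulLeft k (A i j) ∘ₗ (ball P 0).subtype - (ball P 0).subtype ∘ₗ T (A i j))) ∘ₗ
        LinearMap.proj j by
      refine LinearMap.ext fun c => funext fun i => ?_
      simp only [LinearMap.sum_apply, Finset.sum_apply, LinearMap.comp_apply, LinearMap.single_apply,
        LinearMap.proj_apply, LinearMap.sub_apply, Pi.sub_apply]
      rw [Finset.sum_eq_single i]
      · simp only [Pi.single_eq_same, Finset.sum_sub_distrib, hfa]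
        show _ - ((T' c i).1 : K) = _
        rw [hT'a, AddSubmonoidClass.coe_finsetSum]
        rfl
      · intro i' _ hne
        exact Finset.sum_eq_zero fun j _ => Pi.single_eq_of_ne hne.symm _
      · simp]
    exact finRank_sum _ fun i _ => finRank_sum _ fun j _ => ((hT (A i j)).comp_left _).comp_right _
  have hX : ∀ c, FinRank (T c ∘ₗ S - S ∘ₗ T c) := fun c =>
    finRank_commutator (Submodule.injective_subtype _) (mulLeft_comm' c v) (hT c) hS
  refine ⟨T', S', hliftT, IsLift.piMap _ fun _ => hS, ?_⟩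
  rw [show T' ∘ₗ S' - S' ∘ₗ T' = ∑ i, ∑ j, (LinearMap.single k (fun _ : Fin n => ball P 0) i ∘ₗ
      (T (A i j) ∘ₗ S - S ∘ₗ T (A i j))) ∘ₗ LinearMap.proj j by
    refine LinearMap.ext fun c => funext fun i => ?_
    simp only [LinearMap.sum_apply, Finset.sum_apply, LinearMap.comp_apply, LinearMap.single_apply,
      LinearMap.proj_apply, LinearMap.sub_apply, Pi.sub_apply]
    rw [Finset.sum_eq_single i]
    · simp only [Pi.single_eq_same, Finset.sum_sub_distrib]
      show T' (S' c) i - S (T' c i) = _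
      rw [hT'a, hT'a, map_sum]
      rfl
    · intro i' _ hne
      exact Finset.sum_eq_zero fun j _ => Pi.single_eq_of_ne hne.symm _
    · simp,
    ftr_sum _ fun i _ => finRank_sum _ fun j _ => ((hX _).comp_left _).comp_right _,
    map_sum]
  refine Finset.sum_congr rfl fun i _ => ?_
  rw [ftr_sum _ fun j _ => ((hX _).comp_left _).comp_right _, Finset.sum_eq_single i]
  · rw [ftr_comm ((hX _).comp_left _) _, ← LinearMap.comp_assoc, LinearMap.proj_comp_single_same,
      LinearMap.id_comp]
    exact IsTRes.eq_ftr (Submodule.injective_subtype _) (mulLeft_comm' _ v)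
      ⟨_, _, hT _, hS₀ _, hTS _⟩ (hT _) hS
  · intro j _ hji
    rw [ftr_comm ((hX _).comp_left _) _, ← LinearMap.comp_assoc,
      LinearMap.proj_comp_single_ne k _ j i hji, LinearMap.zero_comp, ftr_zero]
  · simp

theorem finite_quotient_of_pi {k : Type*} [Field k] {M : Type*} [AddCommGroup M] [Module k M] {I : Type*}
    [Finite I] {N : I → Type*} [∀ i, AddCommGroup (N i)] [∀ i, Module k (N i)]
    (hN : ∀ i, FiniteDimensional k (N i)) (G : M →ₗ[k] ∀ i, N i) {B : Submodule k M}
    (h : LinearMap.ker G ≤ B) : FiniteDimensional k (M ⧸ B) := by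
  haveI : FiniteDimensional k (M ⧸ LinearMap.ker G) := Module.Finite.equiv G.quotKerEquivRange.symm
  exact Module.Finite.of_surjective (Submodule.factor h) (Submodule.factor_surjective h)

/-- Tate's residue upstairs as a sum of diagonal residues. -/
theorem tres_trace_basis (hF : IsFF k K) (P : Place k K) (Qs : Finset (Place k K'))
    (hQs : ∀ Q, Q ∈ Qs ↔ IsOver Q P) {n : ℕ} (b : Module.Basis (Fin n) K K')
    (hb : ∀ Q ∈ Qs, ∀ i, Q.1 (b i) ≤ 1) (u : K') (v : K) (ρ : K →+ k)
    (hρ : ∀ c : K, TRes (ball P 0) c v (ρ c)) :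
    TRes (semiBall Qs) u (algebraMap K K' v) (ρ (Algebra.trace K K' u)) := by
  classical
  let A : Fin n → Fin n → K := fun i j => Algebra.leftMulMatrix b u i j
  have htr : Algebra.trace K K' u = ∑ i, A i i := by
    rw [Algebra.trace_eq_matrix_trace b]; rfl
  rw [htr]
  let ι := piMap' fun _ : Fin n => (ball P 0).subtype
  have hιi : Function.Injective ι := fun a c h => funext fun i => Subtype.ext (congrFun h i)
  let f := matOp (k := k) A
  let g := piMap' fun _ : Fin n => LinearMap.mulLeft k v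
  have hfa : ∀ c i, f c i = ∑ j, A i j * c j := matOp_apply A
  have hres : IsTRes ι f g (ρ (∑ i, A i i)) := tres_matrix P A v ρ hρ
  let E : (Fin n → K) ≃ₗ[k] K' := b.equivFun.symm.restrictScalars k
  have hE : ∀ c, E c = ∑ i, c i • b i := fun c => b.equivFun_symm_apply c
  let Ψ : (Fin n → ball P 0) →ₗ[k] K' := E.toLinearMap ∘ₗ ι
  have hΨi : Function.Injective Ψ := E.injective.comp hιi
  have hup : IsTRes Ψ (LinearMap.mulLeft k u) (LinearMap.mulLeft k (algebraMap K K' v))
      (ρ (∑ i, A i i)) := by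
    refine IsTRes.equiv (ι := ι) (ι' := Ψ) (LinearEquiv.refl k _) E rfl hΨi (mulLeft_comm' _ _) ?_ ?_ hres
    · refine LinearMap.ext fun c => ?_
      show u * E c = E (f c)
      apply b.equivFun.injective
      funext i
      rw [show b.equivFun (E (f c)) = f c from b.equivFun.apply_symm_apply _, hfa, Module.Basis.equivFun_apply,
        ← Algebra.leftMulMatrix_mulVec_repr b u (E c),
        show ⇑(b.repr (E c)) = c from b.equivFun.apply_symm_apply c]
      rfl
    · refine LinearMap.ext fun c => ?_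
      show algebraMap K K' v * E c = E fun i => v * c i
      rw [hE, hE, Finset.mul_sum]
      exact Finset.sum_congr rfl fun i _ => by rw [mul_smul, ← Algebra.smul_def]
  have hmemR : ∀ c, Ψ c ∈ semiBall Qs := fun c => mem_semiBall.mpr fun Q hQ => by
    show Q.1 (E fun i => (c i).1) ≤ 1
    rw [hE]
    refine Q.1.map_sum_le fun i _ => ?_
    obtain ⟨e, he⟩ := (hQs Q).mp hQ
    rw [Algebra.smul_def, map_mul, he]
    exact mul_le_one' (pow_le_one' (mem_ball_zero.mp (c i).2) e) (hb Q hQ i)
  let j := Ψ.codRestrict (semiBall Qs) hmemR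
  obtain ⟨M, hM⟩ := exists_coord_bound hF P Qs hQs b
  let G : semiBall Qs →ₗ[k] (∀ Q : Qs, ball Q.1 0 ⧸ (ball Q.1 (-(M : ℤ))).submoduleOf (ball Q.1 0)) :=
    LinearMap.pi fun Q => Submodule.mkQ _ ∘ₗ Submodule.inclusion (iInf₂_le Q.1 Q.2)
  have hker : LinearMap.ker G ≤ LinearMap.range j := fun z hz => by
    have hz' : ∀ Q ∈ Qs, Q.1 z.1 ≤ exp (-(M : ℤ)) := fun Q hQ => by
      exact (Submodule.Quotient.mk_eq_zero _).mp (congrFun (LinearMap.mem_ker.mp hz) ⟨Q, hQ⟩)
    let c : Fin n → ball P 0 := fun i => ⟨b.repr z.1 i, mem_ball_zero.mpr (hM z.1 hz' i)⟩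
    have hc : Ψ c = z.1 := (hE fun i => b.repr z.1 i).trans (b.sum_repr z.1)
    refine ⟨c, Subtype.ext ?_⟩
    rw [LinearMap.codRestrict_apply]
    exact hc
  have hN : ∀ Q : Qs, FiniteDimensional k (ball Q.1 0 ⧸ (ball Q.1 (-(M : ℤ))).submoduleOf (ball Q.1 0)) :=
    fun Q => finite_ball_quotient hF.ext Q.1 (by omega)
  haveI := finite_quotient_of_pi hN G hker
  exact IsTRes.congr_lattice (j := j) (Submodule.injective_subtype _) (mulLeft_comm' _ _)
    (fun a c h => hΨi (congrArg Subtype.val h)) rfl hup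

/-- Tate's residue upstairs as a sum of diagonal residues. -/
theorem tres_trace (hF : IsFF k K) (P : Place k K) (Qs : Finset (Place k K'))
    (hQs : ∀ Q, Q ∈ Qs ↔ IsOver Q P) (u : K') (v : K) (ρ : K →+ k)
    (hρ : ∀ c : K, TRes (ball P 0) c v (ρ c)) :
    TRes (semiBall Qs) u (algebraMap K K' v) (ρ (Algebra.trace K K' u)) := by
  obtain ⟨b, hb⟩ := exists_integral_basis hF P Qs hQs
  exact tres_trace_basis hF P Qs hQs b hb u v ρ hρ

/-- The trace formula at a place. -/
theorem trace_formula (hF : IsFF k K) (P : Place k K) (Qs : Finset (Place k K'))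
    (hQs : ∀ Q, Q ∈ Qs ↔ IsOver Q P) (u : K') (v : K) (ρ : K →+ k)
    (hρ : ∀ c : K, TRes (ball P 0) c v (ρ c)) (r : Place k K' → k)
    (hr : ∀ Q ∈ Qs, TRes (ball Q 0) u (algebraMap K K' v) (r Q)) :
    ρ (Algebra.trace K K' u) = ∑ Q ∈ Qs, r Q := by
  obtain ⟨Q₀, hQ₀⟩ := exists_isOver (K' := K') hF P
  exact (tres_trace hF P Qs hQs u v ρ hρ).unique (tres_semiBall Qs ⟨Q₀, (hQs Q₀).mpr hQ₀⟩ hr)

end Groth.Agent.FFLib
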