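import Groth.Agent.FFLib.Trace.Local
import Groth.Agent.FFLib.Ram.Inertia
import Mathlib.RingTheory.Norm.Basic

/-! Integral bases adapted to the places over a place, and valuations of norms. -/

set_option linter.unusedSectionVars false
set_option linter.style.haveILetI false

namespace Groth.Agent.FFLib

open FunFld WithZero

universe u v

variable {k K K' : Type*} [Field k] [Field K] [Field K'] [Algebra k K] [Algebra K K']
  [Algebra k K'] [IsScalarTower k K K'] [FiniteDimensional K K']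

/-- A residue basis of a place over the place below. -/
theorem exists_resBasis_over (hF : IsFF k K) {P : Place k K} {Q : Place k K'} (h : IsOver Q P) :
    ∃ (f : ℕ) (a : Fin f → K'), f * P.deg = Q.deg ∧ (∀ j, Q.1 (a j) ≤ 1) ∧
      ∀ c : Fin f → K, (∀ j, P.1 (c j) ≤ 1) → Q.1 (∑ j, algebraMap K K' (c j) * a j) < 1 →
        ∀ j, P.1 (c j) < 1 := by
  classical
  obtain ⟨e, he⟩ := h
  have he1 := over_pos hF he
  let f0 : P.O →+* Q.O := ((algebraMap K K').comp P.O.subtype).codRestrict Q.O fun a => by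
    show Q.1 (algebraMap K K' a.1) ≤ 1
    rw [he]; exact pow_le_one' a.2 e
  letI : Algebra P.O Q.O := f0.toAlgebra
  haveI : IsScalarTower k P.O Q.O := IsScalarTower.of_algebraMap_eq fun c => Subtype.ext (by
    show algebraMap k K' c = algebraMap K K' (algebraMap k K c)
    rw [← IsScalarTower.algebraMap_apply])
  haveI : IsLocalHom (algebraMap P.O Q.O) := ⟨fun a ha => by
    by_contra hna
    have h1 : P.1 a.1 < 1 := Valuation.Integer.not_isUnit_iff_valuation_lt_one.mp hna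
    refine Valuation.Integer.not_isUnit_iff_valuation_lt_one.mpr ?_ ha
    show Q.1 (algebraMap K K' a.1) < 1
    rw [he]; exact pow_lt_one' h1 (by omega)⟩
  letI : Algebra (Res P) (Res Q) := (IsLocalRing.ResidueField.map (algebraMap P.O Q.O)).toAlgebra
  letI : Module (Res P) (Res Q) := Algebra.toModule
  have hres : ∀ a : P.O, algebraMap (Res P) (Res Q) (IsLocalRing.residue P.O a) =
      IsLocalRing.residue Q.O (algebraMap P.O Q.O a) := fun _ => rfl
  haveI : IsScalarTower k (Res P) (Res Q) := IsScalarTower.of_algebraMap_eq fun c => by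
    rw [residue_algebraMap, residue_algebraMap, hres, ← IsScalarTower.algebraMap_apply]
  obtain ⟨_, hdim⟩ := tower_facts k (Res P) (Res Q) (residue_finite (IsFF.ext (K' := K') hF) Q)
  choose b hb using fun j : Fin (Module.finrank (Res P) (Res Q)) =>
    IsLocalRing.residue_surjective (Module.finBasis (Res P) (Res Q) j)
  refine ⟨_, fun j => (b j : K'), (Nat.mul_comm _ _).trans hdim.symm, fun j => (b j).2, fun c hc hsum j => ?_⟩
  let cO : Fin (Module.finrank (Res P) (Res Q)) → P.O := fun j => ⟨c j, hc j⟩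
  have h0 : IsLocalRing.residue Q.O (∑ j, algebraMap P.O Q.O (cO j) * b j) = 0 := by
    rw [residue_eq_zero, AddSubmonoidClass.coe_finsetSum]
    exact hsum
  rw [map_sum] at h0
  have h1 := Fintype.linearIndependent_iff.mp (Module.finBasis (Res P) (Res Q)).linearIndependent
    (fun j => IsLocalRing.residue P.O (cO j)) (by
      refine Eq.trans (Finset.sum_congr rfl fun j _ => ?_) h0
      rw [Algebra.smul_def, map_mul, hres, hb]) j
  exact (residue_eq_zero P _).mp h1

/-- Integral elements are integral at every place above. -/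
theorem val_le_one_of_monic' {P : Place k K} {R : Place k K'} (hR : IsOver R P) {z : K'} {p : Polynomial P.O} (hp : p.Monic)
    (hpz : p.eval₂ ((algebraMap K K').comp P.O.subtype) z = 0) : R.1 z ≤ 1 := by
  obtain ⟨e', he'⟩ := hR
  by_contra hlt
  rw [not_le] at hlt
  have hz0 : z ≠ 0 := fun e => by rw [e, map_zero] at hlt; exact not_lt_zero hlt
  rw [Polynomial.eval₂_eq_sum_range, Finset.sum_range_succ, hp.coeff_natDegree, map_one, one_mul] at hpz
  have hsum : R.1 (∑ i ∈ Finset.range p.natDegree, ((algebraMap K K').comp P.O.subtype) (p.coeff i) * z ^ i) <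
      R.1 (z ^ p.natDegree) := by
    refine R.1.map_sum_lt (by simp [hz0]) fun i hi => ?_
    rw [map_mul, map_pow, map_pow]
    refine lt_of_le_of_lt (mul_le_of_le_one_left' ?_) (pow_lt_pow_right₀ hlt (Finset.mem_range.mp hi))
    rw [RingHom.comp_apply, he']
    exact pow_le_one' (p.coeff i).2 e'
  have h1 := Valuation.map_add_eq_of_lt_right R.1 hsum
  rw [hpz, map_zero] at h1
  rw [← h1] at hsum
  exact not_lt_zero hsum

variable {P : Place k K} {Qs : Finset (Place k K')}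

/-- Integral elements independent modulo the maximal ideal form an integral basis. -/
theorem basis_of_indepMod (hQs : ∀ Q, Q ∈ Qs ↔ IsOver Q P) {ι : Type*} [Fintype ι] (b : ι → K')
    (hb : ∀ i, ∀ R ∈ Qs, R.1 (b i) ≤ 1)
    (hind : ∀ c : ι → K, (∀ i, P.1 (c i) ≤ 1) →
      (∀ R ∈ Qs, R.1 (∑ i, algebraMap K K' (c i) * b i) ≤ exp (-(ramIdx R P : ℤ))) → ∀ i, P.1 (c i) < 1)
    (hF : IsFF k K) (hcard : Fintype.card ι = Module.finrank K K') :
    ∃ B : Module.Basis ι K K', ⇑B = b ∧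
      ∀ z : K', (∀ R ∈ Qs, R.1 z ≤ 1) ↔ ∀ i, P.1 (B.repr z i) ≤ 1 := by
  classical
  have key : ∀ c : ι → K, (∀ R ∈ Qs, R.1 (∑ i, algebraMap K K' (c i) * b i) ≤ 1) → ∀ i, P.1 (c i) ≤ 1 := by
    intro c hz i
    obtain ⟨i0, -, hi0⟩ := Finset.exists_max_image Finset.univ (fun i => P.1 (c i)) ⟨i, Finset.mem_univ i⟩
    refine (hi0 i (Finset.mem_univ i)).trans (not_lt.mp fun hlt => ?_)
    have hne : c i0 ≠ 0 := fun e => by rw [e, map_zero] at hlt; exact not_lt_zero hlt
    have h := hind (fun i => c i / c i0) (fun i => by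
      rw [map_div₀, div_le_one₀ (zero_lt_iff.mpr (val_ne_zero P hne))]; exact hi0 i (Finset.mem_univ i))
      (fun R hR => by
        obtain ⟨e, he⟩ := (hQs R).mp hR
        rw [show (∑ i, algebraMap K K' (c i / c i0) * b i) =
          algebraMap K K' (c i0)⁻¹ * ∑ i, algebraMap K K' (c i) * b i by
            rw [Finset.mul_sum]
            exact Finset.sum_congr rfl fun i _ => by rw [div_eq_inv_mul, map_mul, mul_assoc], map_mul, he,
          ramIdx_eq hF he]
        refine (mul_le_of_le_one_right' (hz R hR)).trans ?_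
        rw [show exp (-(e : ℤ)) = exp (-1 : ℤ) ^ e by rw [← exp_nsmul, nsmul_eq_mul]; congr 1; ring]
        refine pow_le_pow_left' ((le_exp_neg_one_iff P).mpr ?_) e
        rw [map_inv₀]; exact inv_lt_one_of_one_lt₀ hlt) i0
    rw [div_self hne, map_one] at h
    exact lt_irrefl _ h
  have hli : LinearIndependent K b := by
    rw [Fintype.linearIndependent_iff]
    intro c hc i
    by_contra hne
    obtain ⟨s, -, hs⟩ := exists_val_eq_exp P (P.ord (c i) + 1)
    have h := key (fun j => s * c j) (fun R _ => by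
      rw [show (∑ j, algebraMap K K' (s * c j) * b j) = algebraMap K K' s * ∑ j, c j • b j by
        rw [Finset.mul_sum]
        exact Finset.sum_congr rfl fun j _ => by rw [map_mul, Algebra.smul_def, mul_assoc], hc, mul_zero, map_zero]
      exact zero_le) i
    rw [map_mul, hs, val_eq_exp P hne, ← exp_add] at h
    have h' := exp_le_exp.mp (h.trans_eq exp_zero.symm)
    omega
  have hspan : ⊤ ≤ Submodule.span K (Set.range b) :=
    (hli.span_eq_top_of_card_eq_finrank' hcard).ge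
  refine ⟨Module.Basis.mk hli hspan, Module.Basis.coe_mk _ _, fun z => ?_⟩
  set B := Module.Basis.mk hli hspan
  have hz : ∑ i, algebraMap K K' (B.repr z i) * b i = z := by
    conv_rhs => rw [← B.sum_repr z]
    exact Finset.sum_congr rfl fun i _ => by rw [Algebra.smul_def, Module.Basis.mk_apply]
  refine ⟨fun h => key _ (fun R hR => by rw [hz]; exact h R hR), fun h R hR => ?_⟩
  obtain ⟨e, he⟩ := (hQs R).mp hR
  rw [← hz]
  refine R.1.map_sum_le fun i _ => ?_
  rw [map_mul, he]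
  exact mul_le_one' (pow_le_one' (h i) e) (hb i R hR)

/-- An integral basis in layers along the uniformisers. -/
theorem exists_layered_basis (hF : IsFF k K) (P : Place k K) (Qs : Finset (Place k K'))
    (hQs : ∀ Q, Q ∈ Qs ↔ IsOver Q P) (M : ℕ) :
    ∃ (f : Qs → ℕ) (a : ∀ R : Qs, Fin (f R) → K') (t : Qs → K')
      (B : Module.Basis (Σ R : Qs, Fin (ramIdx R.1 P) × Fin (f R)) K K'),
      (∀ R : Qs, f R * P.deg = R.1.deg ∧ R.1.1 (t R) = exp (-1 : ℤ) ∧ (∀ j, R.1.1 (a R j) ≤ 1) ∧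
        ∀ c : Fin (f R) → K, (∀ j, P.1 (c j) ≤ 1) → R.1.1 (∑ j, algebraMap K K' (c j) * a R j) < 1 →
          ∀ j, P.1 (c j) < 1) ∧
      (∀ (R : Qs) (p : Fin (ramIdx R.1 P) × Fin (f R)),
        R.1.1 (B ⟨R, p⟩ - a R p.2 * t R ^ (p.1 : ℕ)) ≤ exp (-((M + ramIdx R.1 P : ℕ) : ℤ)) ∧
        ∀ S : Qs, S ≠ R → S.1.1 (B ⟨R, p⟩) ≤ exp (-((M + ramIdx S.1 P : ℕ) : ℤ))) ∧
      (∀ z : K', (∀ R ∈ Qs, R.1 z ≤ 1) ↔ ∀ i, P.1 (B.repr z i) ≤ 1) ∧
      (∀ c : _ → K, (∀ i, P.1 (c i) ≤ 1) →
        (∀ R ∈ Qs, R.1 (∑ i, algebraMap K K' (c i) * B i) ≤ exp (-(ramIdx R P : ℤ))) → ∀ i, P.1 (c i) < 1) := by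
  classical
  choose f a hf ha hind using fun R : Qs => exists_resBasis_over hF ((hQs R.1).mp R.2)
  choose t ht0 ht using fun R : Qs => exists_unif R.1
  have hexist : ∀ q : Σ R : Qs, Fin (ramIdx R.1 P) × Fin (f R), ∃ b : K',
      q.1.1.1 (b - a q.1 q.2.2 * t q.1 ^ (q.2.1 : ℕ)) ≤ exp (-((M + ramIdx q.1.1 P : ℕ) : ℤ)) ∧
      ∀ S : Qs, S ≠ q.1 → S.1.1 b ≤ exp (-((M + ramIdx S.1 P : ℕ) : ℤ)) := fun q => by
    obtain ⟨b, hb⟩ := exists_approx Qs (fun S => if S = q.1.1 then a q.1 q.2.2 * t q.1 ^ (q.2.1 : ℕ) else 0)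
      (fun S => ((M + ramIdx S P : ℕ) : ℤ))
    refine ⟨b, ?_, fun S hS => ?_⟩
    · have := hb q.1.1 q.1.2
      rwa [if_pos rfl] at this
    · have := hb S.1 S.2
      rwa [if_neg (fun e => hS (Subtype.ext e)), sub_zero] at this
  choose b hb1 hb2 using hexist
  have hMe : ∀ S : Place k K', exp (-((M + ramIdx S P : ℕ) : ℤ)) ≤ exp (-(ramIdx S P : ℤ)) :=
    fun S => exp_le_exp.mpr (by omega)
  have hb : ∀ q, ∀ R ∈ Qs, R.1 (b q) ≤ 1 := fun ⟨R₀, p⟩ R hR => by
    have he0 : exp (-((M + ramIdx R P : ℕ) : ℤ)) ≤ 1 := by rw [← exp_zero, exp_le_exp]; omega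
    by_cases h : (⟨R, hR⟩ : Qs) = R₀
    · subst h
      rw [← sub_add_cancel (b _) (a ⟨R, hR⟩ p.2 * t ⟨R, hR⟩ ^ (p.1 : ℕ))]
      refine (R.1.map_add _ _).trans (max_le ((hb1 ⟨⟨R, hR⟩, p⟩).trans he0) ?_)
      rw [map_mul, map_pow, ht ⟨R, hR⟩]
      exact mul_le_one' (ha ⟨R, hR⟩ p.2) (pow_le_one' (by rw [← exp_zero, exp_le_exp]; norm_num) _)
    · exact (hb2 ⟨R₀, p⟩ ⟨R, hR⟩ h).trans he0
  have hindep : ∀ c : _ → K, (∀ i, P.1 (c i) ≤ 1) →
      (∀ R ∈ Qs, R.1 (∑ i, algebraMap K K' (c i) * b i) ≤ exp (-(ramIdx R P : ℤ))) → ∀ i, P.1 (c i) < 1 := by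
    intro c hc hz ⟨R, i, j⟩
    obtain ⟨e, he⟩ := (hQs R.1).mp R.2
    have hee : ramIdx R.1 P = e := ramIdx_eq hF he
    have hcv : ∀ q, R.1.1 (algebraMap K K' (c q)) ≤ 1 := fun q => by rw [he]; exact pow_le_one' (hc q) e
    -- only the terms at `R` matter
    set T := ∑ p : Fin (ramIdx R.1 P) × Fin (f R), algebraMap K K' (c ⟨R, p⟩) * (a R p.2 * t R ^ (p.1 : ℕ))
    have hT : R.1.1 T ≤ exp (-(ramIdx R.1 P : ℤ)) := by
      have h := hz R.1 R.2
      rw [Fintype.sum_sigma, ← Finset.add_sum_erase _ _ (Finset.mem_univ R)] at h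
      set rest := ∑ S ∈ Finset.univ.erase R, ∑ p, algebraMap K K' (c ⟨S, p⟩) * b ⟨S, p⟩
      have hrest : R.1.1 rest ≤ exp (-(ramIdx R.1 P : ℤ)) := R.1.1.map_sum_le fun S hS =>
        R.1.1.map_sum_le fun p _ => by
          rw [map_mul]
          exact (mul_le_of_le_one_left' (hcv _)).trans
            ((hb2 ⟨S, p⟩ R (Finset.ne_of_mem_erase hS).symm).trans (hMe _))
      rw [show T = ((∑ p, algebraMap K K' (c ⟨R, p⟩) * b ⟨R, p⟩) + rest) - rest -
        ∑ p, algebraMap K K' (c ⟨R, p⟩) * (b ⟨R, p⟩ - a R p.2 * t R ^ (p.1 : ℕ)) by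
          simp only [mul_sub, Finset.sum_sub_distrib]; simp only [T]; ring]
      refine (Valuation.map_sub _ _ _).trans (max_le ((Valuation.map_sub _ _ _).trans (max_le h hrest)) ?_)
      refine R.1.1.map_sum_le fun p _ => ?_
      rw [map_mul]
      exact (mul_le_of_le_one_left' (hcv _)).trans ((hb1 ⟨R, p⟩).trans (hMe _))
    suffices H : ∀ (n : ℕ) (hn : n < ramIdx R.1 P) (j : Fin (f R)), P.1 (c ⟨R, ⟨n, hn⟩, j⟩) < 1 from
      H i.1 i.2 j
    intro n
    induction n using Nat.strong_induction_on with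
    | _ n ih =>
      intro hn
      set U := ∑ j, algebraMap K K' (c ⟨R, ⟨n, hn⟩, j⟩) * a R j
      have hU : R.1.1 (U * t R ^ n) ≤ exp (-((n : ℤ) + 1)) := by
        have hsplit : T = U * t R ^ n + ∑ i ∈ Finset.univ.erase (⟨n, hn⟩ : Fin (ramIdx R.1 P)),
            ∑ j, algebraMap K K' (c ⟨R, i, j⟩) * (a R j * t R ^ (i : ℕ)) := by
          simp only [T]
          rw [Fintype.sum_prod_type, ← Finset.add_sum_erase _ _ (Finset.mem_univ (⟨n, hn⟩ : Fin (ramIdx R.1 P))),
            Finset.sum_mul]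
          congr 1
          exact Finset.sum_congr rfl fun j _ => by ring
        rw [eq_sub_of_add_eq hsplit.symm]
        refine (Valuation.map_sub _ _ _).trans (max_le (hT.trans (exp_le_exp.mpr (by omega))) ?_)
        refine R.1.1.map_sum_le fun i hi => R.1.1.map_sum_le fun j _ => ?_
        rw [map_mul, map_mul, map_pow, ht R]
        rcases Nat.lt_trichotomy i.1 n with hlt | heq | hgt
        · have h1 := (le_exp_neg_one_iff P).mpr (ih i.1 hlt i.2 j)
          refine (mul_le_of_le_one_right' (mul_le_one' (ha R j) (pow_le_one' (by rw [← exp_zero, exp_le_exp]; norm_num) _))).trans ?_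
          rw [he]
          refine (pow_le_pow_left' h1 e).trans ?_
          rw [← exp_nsmul, exp_le_exp, nsmul_eq_mul]; omega
        · exact absurd (Fin.ext heq) (Finset.ne_of_mem_erase hi)
        · refine (mul_le_of_le_one_left' (hcv _)).trans ((mul_le_of_le_one_left' (ha R j)).trans ?_)
          rw [← exp_nsmul, exp_le_exp, nsmul_eq_mul]; omega
      refine hind R _ (fun j => hc _) ((le_exp_neg_one_iff R.1).mp ?_)
      rw [map_mul, map_pow, ht R, ← exp_nsmul, nsmul_eq_mul] at hU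
      refine le_of_mul_le_mul_right (hU.trans (le_of_eq ?_)) (zero_lt_iff.mpr exp_ne_zero)
      rw [← exp_add]; congr 1; ring
  obtain ⟨B, hB, hBz⟩ := basis_of_indepMod hQs b hb hindep hF (by
    refine Nat.eq_of_mul_eq_mul_right (deg_pos hF P) ?_
    rw [← sum_ram_deg hF P Qs hQs, Fintype.card_sigma, Finset.sum_mul, ← Finset.sum_attach Qs,
      Finset.univ_eq_attach]
    refine Finset.sum_congr rfl fun R _ => ?_
    rw [Fintype.card_prod, Fintype.card_fin, Fintype.card_fin, mul_assoc, hf])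
  refine ⟨f, a, t, B, fun R => ⟨hf R, ht R, ha R, hind R⟩, fun R p => ?_, hBz, by rw [hB]; exact hindep⟩
  rw [hB]
  exact ⟨hb1 ⟨R, p⟩, hb2 ⟨R, p⟩⟩

theorem sum_div_eq (e : ℕ) (he : 0 < e) (a : ℤ) : ∑ i : Fin e, (a + (i : ℕ)) / (e : ℤ) = a := by
  rw [Fin.sum_univ_eq_sum_range (fun i : ℕ => (a + (i : ℤ)) / (e : ℤ))]
  have hstep : ∀ a : ℤ, ∑ i ∈ Finset.range e, ((a + 1) + (i : ℤ)) / (e : ℤ) =
      ∑ i ∈ Finset.range e, (a + (i : ℤ)) / (e : ℤ) + 1 := fun a => by
    have h1 := Finset.sum_range_succ' (fun i : ℕ => (a + (i : ℤ)) / (e : ℤ)) e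
    have h2 := Finset.sum_range_succ (fun i : ℕ => (a + (i : ℤ)) / (e : ℤ)) e
    have h3 : (a + (e : ℤ)) / (e : ℤ) = a / (e : ℤ) + 1 := by
      have := Int.add_mul_ediv_right a 1 (show (e : ℤ) ≠ 0 by omega)
      rwa [one_mul] at this
    rw [h2, h3] at h1
    push_cast at h1
    simp only [add_zero] at h1
    rw [Finset.sum_congr rfl fun i (_ : i ∈ Finset.range e) => show ((a + 1) + (i : ℤ)) / (e : ℤ) = (a + ((i : ℤ) + 1)) / (e : ℤ) by ring_nf]
    linarith
  induction a using Int.induction_on with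
  | zero => exact Finset.sum_eq_zero fun i hi => Int.ediv_eq_zero_of_lt (by omega) (by have := Finset.mem_range.mp hi; omega)
  | succ n ih => rw [hstep, ih]
  | pred n ih =>
    have h := hstep (-(n : ℤ) - 1)
    rw [sub_add_cancel, ih] at h
    linarith

theorem deg_mul_ord_norm_ge (hF : IsFF k K) (hQs : ∀ Q, Q ∈ Qs ↔ IsOver Q P) {x : K'} (hx : x ≠ 0) :
    ∑ R ∈ Qs, (R.deg : ℤ) * R.ord x ≤ (P.deg : ℤ) * P.ord (Algebra.norm K x) := by
  classical
  let A : ℕ := ∑ R ∈ Qs, (R.ord x).natAbs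
  let E : ℕ := ∑ R ∈ Qs, ramIdx R P
  obtain ⟨f, a, t, B, hR, hB, hBz, -⟩ := exists_layered_basis hF P Qs hQs (A + E * (A + 1))
  obtain ⟨π, hπ0, hπ⟩ := exists_unif P
  let kk : (Σ R : Qs, Fin (ramIdx R.1 P) × Fin (f R)) → ℤ := fun q =>
    (q.1.1.ord x + (q.2.1 : ℕ)) / (ramIdx q.1.1 P : ℤ)
  have hπ' : algebraMap K K' π ≠ 0 := (map_ne_zero _).mpr hπ0
  have hint : ∀ q, ∀ S ∈ Qs, S.1 (x * B q / algebraMap K K' π ^ kk q) ≤ 1 := by
    intro ⟨R, i, j⟩ S hS
    obtain ⟨eS, heS⟩ := (hQs S).mp hS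
    have hval : S.1 (algebraMap K K' π ^ kk ⟨R, i, j⟩) = exp (-((eS : ℤ) * kk ⟨R, i, j⟩)) := by
      rw [map_zpow₀, heS, hπ, ← exp_nsmul, ← exp_zsmul, nsmul_eq_mul, zsmul_eq_mul]
      congr 1; simp; ring
    rw [map_div₀, hval, div_le_one₀ (zero_lt_iff.mpr exp_ne_zero), map_mul, val_eq_exp S hx]
    by_cases h : (⟨S, hS⟩ : Qs) = R
    · subst h
      have heq : ramIdx S P = eS := ramIdx_eq hF heS
      have hb : S.1 (B ⟨⟨S, hS⟩, i, j⟩) ≤ exp (-((i : ℕ) : ℤ)) := by
        rw [← sub_add_cancel (B _) (a ⟨S, hS⟩ j * t ⟨S, hS⟩ ^ (i : ℕ))]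
        refine (S.1.map_add _ _).trans (max_le (((hB ⟨S, hS⟩ (i, j)).1).trans (exp_le_exp.mpr ?_)) ?_)
        · have := i.2; dsimp only at this ⊢; omega
        · rw [map_mul, map_pow, (hR ⟨S, hS⟩).2.1]
          refine (mul_le_of_le_one_left' ((hR ⟨S, hS⟩).2.2.1 j)).trans ?_
          rw [← exp_nsmul, nsmul_eq_mul, exp_le_exp]; omega
      refine (mul_le_mul' le_rfl hb).trans ?_
      rw [← exp_add, exp_le_exp]
      have he1 := over_pos hF heS
      simp only [kk]
      have heq' : ((eS : ℕ) : ℤ) = (ramIdx S P : ℤ) := by rw [heq]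
      rw [heq']
      have := Int.ediv_mul_le (S.ord x + ((i : ℕ) : ℤ)) (b := (ramIdx S P : ℤ)) (by omega)
      nlinarith
    · refine (mul_le_mul' le_rfl ((hB R (i, j)).2 ⟨S, hS⟩ h)).trans ?_
      rw [← exp_add, exp_le_exp]
      have h1 : (S.ord x).natAbs ≤ A := Finset.single_le_sum (f := fun R => (R.ord x).natAbs) (fun _ _ => Nat.zero_le _) hS
      have h2 : ramIdx S P ≤ E := Finset.single_le_sum (f := fun R => ramIdx R P) (fun _ _ => Nat.zero_le _) hS
      have h3 : (R.1.ord x).natAbs ≤ A := Finset.single_le_sum (f := fun R => (R.ord x).natAbs) (fun _ _ => Nat.zero_le _) R.2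
      rw [ramIdx_eq hF heS] at h2
      have hi := i.2
      have h4 : kk ⟨R, i, j⟩ ≤ (A : ℤ) + 1 := by
        show (R.1.ord x + ((i : ℕ) : ℤ)) / (ramIdx R.1 P : ℤ) ≤ _
        refine Int.ediv_le_of_le_mul (by omega) ?_
        have hi' : ((i : ℕ) : ℤ) < (ramIdx R.1 P : ℤ) := by exact_mod_cast hi
        have hA : ((R.1.ord x).natAbs : ℤ) ≤ (A : ℤ) := by exact_mod_cast h3
        have hprod : (0 : ℤ) ≤ (A : ℤ) * ((ramIdx R.1 P : ℤ) - 1) := mul_nonneg (by positivity) (by omega)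
        nlinarith [Int.le_natAbs (a := R.1.ord x)]
      have h5 : (eS : ℤ) * kk ⟨R, i, j⟩ ≤ (E : ℤ) * ((A : ℤ) + 1) :=
        (mul_le_mul_of_nonneg_left h4 (by positivity)).trans (mul_le_mul_of_nonneg_right (by exact_mod_cast h2) (by positivity))
      push_cast
      omega
  have hentry : ∀ r q, P.1 (Algebra.leftMulMatrix B x r q) ≤ exp (-(kk q)) := by
    intro r q
    have h := (hBz _).mp (hint q) r
    rw [Algebra.leftMulMatrix_eq_repr_mul]
    rw [show x * B q / algebraMap K K' π ^ kk q = (π ^ kk q)⁻¹ • (x * B q) by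
      rw [Algebra.smul_def, map_inv₀, map_zpow₀, div_eq_mul_inv, mul_comm], map_smul, Finsupp.smul_apply,
      smul_eq_mul, map_mul, map_inv₀, map_zpow₀, hπ, ← exp_zsmul, zsmul_eq_mul] at h
    rw [inv_mul_le_one₀ (zero_lt_iff.mpr exp_ne_zero)] at h
    simpa using h
  have hdet : P.1 (Algebra.norm K x) ≤ exp (-∑ q, kk q) := by
    rw [Algebra.norm_eq_matrix_det B, Matrix.det_apply']
    refine P.1.map_sum_le fun σ _ => ?_
    rw [map_mul, map_prod]
    have hsign : P.1 ((Equiv.Perm.sign σ : ℤ) : K) ≤ 1 := by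
      rcases Int.units_eq_one_or (Equiv.Perm.sign σ) with h | h <;> simp [h]
    refine (mul_le_of_le_one_left' hsign).trans ((Finset.prod_le_prod' fun q _ => hentry _ q).trans (le_of_eq ?_))
    have key : ∀ s : Finset (Σ R : Qs, Fin (ramIdx R.1 P) × Fin (f R)),
        ∏ q ∈ s, exp (-(kk q)) = exp (-∑ q ∈ s, kk q) := fun s => by
      induction s using Finset.induction_on with
      | empty => simp
      | insert q s ha ih => rw [Finset.prod_insert ha, Finset.sum_insert ha, ih, ← exp_add]; congr 1; ring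
    exact key _
  have hn : Algebra.norm K x ≠ 0 := Algebra.norm_ne_zero_iff.mpr hx
  rw [val_le_exp_iff P hn, neg_neg] at hdet
  refine le_trans (le_of_eq ?_) (mul_le_mul_of_nonneg_left hdet (by positivity))
  rw [Fintype.sum_sigma, Finset.mul_sum, ← Finset.sum_attach Qs, Finset.univ_eq_attach]
  refine Finset.sum_congr rfl fun R _ => ?_
  rw [Fintype.sum_prod_type]
  simp only [kk, Finset.sum_const, Finset.card_univ, Fintype.card_fin, nsmul_eq_mul, ← Finset.mul_sum]
  obtain ⟨e, he⟩ := (hQs R.1).mp R.2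
  rw [sum_div_eq _ (by rw [ramIdx_eq hF he]; exact over_pos hF he), ← (hR R).1]
  push_cast; ring

/-- The valuation of the norm. -/
theorem deg_mul_ord_norm (hF : IsFF k K) (hQs : ∀ Q, Q ∈ Qs ↔ IsOver Q P) (x : K') :
    (P.deg : ℤ) * P.ord (Algebra.norm K x) = ∑ R ∈ Qs, (R.deg : ℤ) * R.ord x := by
  rcases eq_or_ne x 0 with rfl | hx
  · simp
  refine le_antisymm ?_ (deg_mul_ord_norm_ge hF hQs hx)
  have h := deg_mul_ord_norm_ge hF hQs (inv_ne_zero hx)
  simp only [ord_inv, mul_neg, Finset.sum_neg_distrib] at h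
  rw [show Algebra.norm K x⁻¹ = (Algebra.norm K x)⁻¹ from eq_inv_of_mul_eq_one_left (by rw [← map_mul, inv_mul_cancel₀ hx, map_one])] at h
  rw [ord_inv, mul_neg] at h
  linarith

theorem integralClosure_finite (hF : IsFF k K) (P : Place k K) [Algebra P.O K'] [IsScalarTower P.O K K'] :
    Module.Finite P.O (integralClosure P.O K') := by
  classical
  set Qs := (over_finite (K' := K') hF P).toFinset
  have hQs : ∀ R, R ∈ Qs ↔ IsOver R P := fun R => Set.Finite.mem_toFinset _
  obtain ⟨f, a, t, B, -, -, hBz, -⟩ := exists_layered_basis hF P Qs hQs 0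
  have hg : (algebraMap K K').comp P.O.subtype = algebraMap P.O K' :=
    RingHom.ext fun c => (IsScalarTower.algebraMap_apply P.O K K' c).symm
  have heq : Subalgebra.toSubmodule (integralClosure P.O K') = Submodule.span P.O (Set.range B) := by
    refine le_antisymm (fun z hz => ?_) ?_
    · obtain ⟨p, hp, hpz⟩ := (mem_integralClosure_iff P.O K').mp hz
      have h := (hBz z).mp fun R hR => val_le_one_of_monic' ((hQs R).mp hR) hp (hg.symm ▸ hpz)
      rw [← B.sum_repr z]
      refine Submodule.sum_mem _ fun i _ => ?_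
      have e : (B.repr z i) • B i = (⟨B.repr z i, h i⟩ : P.O) • B i := by
        rw [Algebra.smul_def, Algebra.smul_def, IsScalarTower.algebraMap_apply P.O K K']; rfl
      rw [e]
      exact Submodule.smul_mem _ _ (Submodule.subset_span ⟨i, rfl⟩)
    · rw [Submodule.span_le]
      rintro _ ⟨i, rfl⟩
      obtain ⟨p, hp, hpz⟩ := exists_monic_of_le_one hF P (z := B i) fun R hR =>
        (hBz (B i)).mpr (fun r => by
          rw [B.repr_self, Finsupp.single_apply]
          split_ifs <;> simp) R ((hQs R).mpr hR)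
      exact (mem_integralClosure_iff P.O K').mpr ⟨p, hp, hg ▸ hpz⟩
  have : (Subalgebra.toSubmodule (integralClosure P.O K')).FG := by
    rw [heq]; exact Submodule.fg_span (Set.finite_range B)
  exact Module.Finite.iff_fg.mpr this

end Groth.Agent.FFLib
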