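import Groth.Agent.FFLib.Trace.Tate
import Groth.Agent.FFLib.Res.Global
import Groth.Agent.FFLib.LSpace

/-! Tate residues of valuation rings and their intersections. -/

namespace Groth.Agent.FFLib

open FunFld WithZero LinearMap

universe u v

variable {k : Type u} {K : Type v} [Field k] [Field K] [Algebra k K]

theorem mulLeft_comm' (u v : K) :
    LinearMap.mulLeft k u ∘ₗ LinearMap.mulLeft k v = LinearMap.mulLeft k v ∘ₗ LinearMap.mulLeft k u :=
  LinearMap.ext fun z => mul_left_comm u v z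

/-- Tate residue of `u dv` with respect to a lattice in a field. -/
def TRes (M : Submodule k K) (u v : K) (r : k) : Prop :=
  IsTRes M.subtype (LinearMap.mulLeft k u) (LinearMap.mulLeft k v) r

theorem TRes.unique {M : Submodule k K} {u v : K} {r r' : k} (h : TRes M u v r) (h' : TRes M u v r') :
    r = r' :=
  IsTRes.unique M.injective_subtype (mulLeft_comm' u v) h h'

theorem relDim_ball (hF : IsFF k K) (P : Place k K) {m n : ℤ} (h : m ≤ n) :
    ∃ d, RelDim (ball P m) (ball P n) d := by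
  have hstep : ∀ j : ℤ, ∃ d, RelDim (ball P (j - 1)) (ball P j) d := fun j => by
    obtain ⟨d, -, hd, -⟩ := relDim_pullback hF (A := ball P (j - 1)) (B := ball P j) LinearMap.id P j
      (fun x hx => le_trans hx (exp_le_exp.mpr (by omega))) (fun v hv => hv) (fun v _ => Iff.rfl)
    exact ⟨d, hd⟩
  induction n, h using Int.leInduction with
  | base => exact ⟨0, relDim_refl _⟩
  | succ j _ ih =>
    obtain ⟨d, hd⟩ := ih
    obtain ⟨d', hd'⟩ := hstep (j + 1)
    rw [add_sub_cancel_right] at hd'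
    exact ⟨d + d', hd.trans hd'⟩

theorem finite_ball_quotient (hF : IsFF k K) (P : Place k K) {m n : ℤ} (h : m ≤ n) :
    FiniteDimensional k (ball P n ⧸ (ball P m).submoduleOf (ball P n)) :=
  (relDim_ball hF P h).choose_spec.finite_quotient

/-- Tate residues exist at a place, and vanish when one factor is small. -/
theorem tres_ball (hF : IsFF k K) (P : Place k K) (u v : K) :
    (∃ r, TRes (ball P 0) u v r) ∧
      ∀ m : ℕ, P.1 v ≤ exp (m : ℤ) → P.1 u ≤ exp (-(2 * m : ℤ)) → TRes (ball P 0) u v 0 := by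
  obtain ⟨q, hq⟩ := (ball P 0).subtype.exists_leftInverse_of_injective (ball P 0).ker_subtype
  have hlift : ∀ x : K, IsLift (ball P 0).subtype (LinearMap.mulLeft k x)
      (q ∘ₗ LinearMap.mulLeft k x ∘ₗ (ball P 0).subtype) := by
    intro x
    obtain ⟨m, hm⟩ : ∃ m : ℕ, P.1 x ≤ exp (m : ℤ) := by
      rcases eq_or_ne x 0 with rfl | hx
      · exact ⟨0, by simp⟩
      · exact ⟨(-P.ord x).toNat, (val_le_exp_iff P hx _).mpr (by omega)⟩
    have := finite_ball_quotient hF P (show -(m : ℤ) ≤ 0 by omega)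
    refine finRank_of_vanish ((ball P (-(m : ℤ))).submoduleOf (ball P 0)) _ fun z hz => ?_
    have hxz : x * z.1 ∈ ball P 0 := by
      show P.1 (x * z.1) ≤ exp 0
      rw [map_mul]
      refine le_trans (mul_le_mul' hm hz) ?_
      rw [← exp_add, exp_le_exp]; omega
    rw [LinearMap.mem_ker]
    show x * z.1 - (q (x * z.1)).1 = 0
    rw [show q (x * z.1) = ⟨x * z.1, hxz⟩ from LinearMap.congr_fun hq ⟨x * z.1, hxz⟩, sub_self]
  refine ⟨⟨_, _, _, hlift u, hlift v, rfl⟩, fun m hv hu => ?_⟩
  set S := q ∘ₗ LinearMap.mulLeft k v ∘ₗ (ball P 0).subtype with hS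
  have hu' : ∀ y, P.1 y ≤ exp (m : ℤ) → u * y ∈ ball P (-(m : ℤ)) := fun y hy => by
    show P.1 (u * y) ≤ _
    rw [map_mul, show -(m : ℤ) = -(2 * m : ℤ) + m by ring, exp_add]
    exact mul_le_mul' hu hy
  have hsub : ∀ y, y ∈ ball P (-(m : ℤ)) → y ∈ ball P 0 := fun y hy =>
    le_trans hy (exp_le_exp.mpr (by omega))
  have hball : ∀ z : ball P 0, P.1 z.1 ≤ exp (m : ℤ) := fun z => z.2.trans (exp_le_exp.mpr (by omega))
  let T : ball P 0 →ₗ[k] ball P 0 :=
    (LinearMap.mulLeft k u ∘ₗ (ball P 0).subtype).codRestrict _ fun z => hsub _ (hu' _ (hball z))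
  have hT : IsLift (ball P 0).subtype (LinearMap.mulLeft k u) T := by
    show FinRank _
    rw [show LinearMap.mulLeft k u ∘ₗ (ball P 0).subtype - (ball P 0).subtype ∘ₗ T = 0 from
      LinearMap.ext fun z => sub_self (u * z.1)]
    exact finRank_zero
  refine ⟨T, S, hT, hlift v, ?_⟩
  set E := LinearMap.mulLeft k v ∘ₗ (ball P 0).subtype - (ball P 0).subtype ∘ₗ S
  have hSu : ∀ y : ball P 0, y.1 ∈ ball P (-(m : ℤ)) → (S y).1 = v * y.1 := fun y hy => by
    have hvy : v * y.1 ∈ ball P 0 := by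
      show P.1 (v * y.1) ≤ exp 0
      rw [map_mul]
      refine le_trans (mul_le_mul' hv hy) ?_
      rw [← exp_add, exp_le_exp]; omega
    show (q (v * y.1)).1 = _
    rw [show q (v * y.1) = ⟨v * y.1, hvy⟩ from LinearMap.congr_fun hq ⟨v * y.1, hvy⟩]
  have hER : LinearMap.range E ≤ ball P (m : ℤ) := by
    rintro _ ⟨z, rfl⟩
    refine Submodule.sub_mem _ ?_ ((S z).2.trans (exp_le_exp.mpr (by omega)))
    show P.1 (v * z.1) ≤ _
    rw [map_mul, show (m : ℤ) = m + 0 by omega, exp_add]
    exact mul_le_mul' hv z.2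
  let Y : LinearMap.range E →ₗ[k] ball P 0 :=
    -((LinearMap.mulLeft k u ∘ₗ (LinearMap.range E).subtype).codRestrict _ fun w =>
      hsub _ (hu' _ (hER w.2)))
  have hfin : FinRank E := hlift v
  have hfin' : FinRank E.rangeRestrict := by
    have := (show FiniteDimensional k (LinearMap.range E) from hfin)
    exact finRank_of_codomain _
  rw [show T ∘ₗ S - S ∘ₗ T = Y ∘ₗ E.rangeRestrict from LinearMap.ext fun z => Subtype.ext (by
      show u * (S z).1 - (S (T z)).1 = -(u * (v * z.1 - (S z).1))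
      rw [hSu (T z) (hu' _ (hball z)), show (T z).1 = u * z.1 from rfl]
      ring),
    ← ftr_comm hfin' Y]
  convert ftr_zero using 2
  refine LinearMap.ext fun w => Subtype.ext ?_
  show v * (Y w).1 - (S (Y w)).1 = 0
  rw [hSu (Y w) ?_, sub_self]
  show -(u * w.1) ∈ ball P (-(m : ℤ))
  exact Submodule.neg_mem _ (hu' _ (hER w.2))

/-- The residue read through an expansion. -/
theorem tres_expansion {F : Type*} [Field F] [Algebra k F] [FiniteDimensional k F] {P : Place k K}
    {φ : K →ₐ[k] LaurentSeries F} (hφ : LocRes.IsExpansionAt P.1 φ) (u v : K) :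
    TRes (ball P 0) u v (LocRes.locRes φ u v) :=
  let ⟨T, S, hT, hS, h⟩ := exists_lifts hφ u v
  ⟨T, S, hT, hS, h⟩

/-- The semilocal ring of finitely many places. -/
def semiBall (S : Finset (Place k K)) : Submodule k K := ⨅ P ∈ S, ball P 0

theorem mem_semiBall {S : Finset (Place k K)} {z : K} : z ∈ semiBall S ↔ ∀ P ∈ S, P.1 z ≤ 1 := by
  simp only [semiBall, Submodule.mem_iInf, mem_ball_zero]

/-- Residues at finitely many places add up to the residue of their intersection. -/
theorem tres_semiBall (S : Finset (Place k K)) (hS : S.Nonempty) {u v : K} {r : Place k K → k}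
    (h : ∀ P ∈ S, TRes (ball P 0) u v (r P)) : TRes (semiBall S) u v (∑ P ∈ S, r P) := by
  classical
  have hp := IsTRes.piMap (I := S) (N := fun P => ball P.1 0) (W := fun _ => K)
    (fun P => (ball P.1 0).subtype) (fs := fun _ => LinearMap.mulLeft k u)
    (gs := fun _ => LinearMap.mulLeft k v) (fun P => Submodule.injective_subtype _)
    (fun _ => mulLeft_comm' u v) (r := fun P => r P.1) (fun P => h P.1 P.2)
  rw [Finset.sum_coe_sort S r] at hp
  have hinj : Function.Injective (piMap' fun P : S => (ball P.1 0).subtype) := fun a b hab =>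
    funext fun P => Subtype.ext (congrFun hab P)
  refine IsTRes.of_dense (D := LinearMap.pi fun _ : S => (LinearMap.id : K →ₗ[k] K))
    (j := LinearMap.pi fun P : S => Submodule.inclusion (iInf₂_le P.1 P.2))
    hinj ?_ (Submodule.injective_subtype _)
    (LinearMap.ext fun z => funext fun P => mul_left_comm u v (z P)) rfl rfl rfl ?_ ?_ hp
  · intro a b hab
    obtain ⟨P, hP⟩ := hS
    exact congrFun hab ⟨P, hP⟩
  · refine top_le_iff.mp fun w _ => ?_
    obtain ⟨z, hz⟩ := exists_approx S (fun P => if h : P ∈ S then w ⟨P, h⟩ else 0) (fun _ => 0)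
    refine Submodule.mem_sup.mpr ⟨_, ⟨z, rfl⟩, _, ⟨fun P => ⟨w P - z, ?_⟩, rfl⟩, ?_⟩
    · have := hz P.1 P.2
      rw [dif_pos P.2, neg_zero] at this
      show P.1.1 (w P - z) ≤ _
      rwa [Valuation.map_sub_swap]
    · funext P
      show z + (w P - z) = w P
      ring
  · intro z m' hzm
    have hz : z ∈ semiBall S := mem_semiBall.mpr fun P hP => by
      have : z = (m' ⟨P, hP⟩).1 := congrFun hzm ⟨P, hP⟩
      rw [this]; exact mem_ball_zero.mp (m' ⟨P, hP⟩).2
    exact ⟨⟨z, hz⟩, funext fun P => Subtype.ext (congrFun hzm P)⟩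

end Groth.Agent.FFLib
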