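import Groth.Agent.FFLib.Res.FinTrace
import Mathlib.LinearAlgebra.Pi
import Mathlib.LinearAlgebra.Quotient.Pi

/-! Tate residues of lattices: change of lattice, products, and dense diagonals. -/

namespace Groth.Agent.FFLib

open LinearMap

variable {k : Type*} [Field k]
variable {M M' V : Type*} [AddCommGroup M] [Module k M] [AddCommGroup M'] [Module k M']
  [AddCommGroup V] [Module k V]

/-- `r` is the residue of the commuting operators `f, g` with respect to the lattice `ι`. -/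
def IsTRes (ι : M →ₗ[k] V) (f g : V →ₗ[k] V) (r : k) : Prop :=
  ∃ T S : M →ₗ[k] M, IsLift ι f T ∧ IsLift ι g S ∧ ftr (T ∘ₗ S - S ∘ₗ T) = r

variable {ι : M →ₗ[k] V} {f g : V →ₗ[k] V}

theorem IsTRes.unique (hι : Function.Injective ι) (hfg : f ∘ₗ g = g ∘ₗ f) {r r' : k}
    (h : IsTRes ι f g r) (h' : IsTRes ι f g r') : r = r' := by
  obtain ⟨T, S, hT, hS, rfl⟩ := h
  obtain ⟨T', S', hT', hS', rfl⟩ := h'
  exact ftr_commutator_congr hι hfg hT' hT hS' hS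

theorem IsTRes.eq_ftr (hι : Function.Injective ι) (hfg : f ∘ₗ g = g ∘ₗ f) {r : k} (h : IsTRes ι f g r)
    {T S : M →ₗ[k] M} (hT : IsLift ι f T) (hS : IsLift ι g S) : ftr (T ∘ₗ S - S ∘ₗ T) = r :=
  IsTRes.unique hι hfg ⟨T, S, hT, hS, rfl⟩ h

/-- Lifts to a sublattice of finite codimension. -/
theorem IsLift.sublattice {ι' : M' →ₗ[k] V} {j : M →ₗ[k] M'} (hι : ι' ∘ₗ j = ι) {p : M' →ₗ[k] M}
    (hfin : FinRank (LinearMap.id - j ∘ₗ p)) {T' : M' →ₗ[k] M'} (hT : IsLift ι' f T') :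
    IsLift ι f (p ∘ₗ T' ∘ₗ j) := by
  show FinRank _
  rw [show f ∘ₗ ι - ι ∘ₗ (p ∘ₗ T' ∘ₗ j) =
      (f ∘ₗ ι' - ι' ∘ₗ T') ∘ₗ j + (ι' ∘ₗ (LinearMap.id - j ∘ₗ p)) ∘ₗ (T' ∘ₗ j) by
    refine LinearMap.ext fun x => ?_
    have e : ∀ y, ι y = ι' (j y) := fun y => (LinearMap.congr_fun hι y).symm
    simp only [LinearMap.sub_apply, LinearMap.add_apply, LinearMap.comp_apply, LinearMap.id_apply,
      map_sub, e]
    abel]
  exact ((FinRank.comp_right hT j)).add (((hfin.comp_left ι')).comp_right _)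

/-- Lifts to a superlattice of finite codimension. -/
theorem IsLift.superlattice {ι' : M' →ₗ[k] V} {j : M →ₗ[k] M'} (hι : ι' ∘ₗ j = ι) {p : M' →ₗ[k] M}
    (hfin : FinRank (LinearMap.id - j ∘ₗ p)) {T : M →ₗ[k] M} (hT : IsLift ι f T) :
    IsLift ι' f (j ∘ₗ T ∘ₗ p) := by
  show FinRank _
  rw [show f ∘ₗ ι' - ι' ∘ₗ (j ∘ₗ T ∘ₗ p) =
      (f ∘ₗ ι - ι ∘ₗ T) ∘ₗ p + (f ∘ₗ ι') ∘ₗ (LinearMap.id - j ∘ₗ p) by
    refine LinearMap.ext fun x => ?_
    have e : ∀ y, ι y = ι' (j y) := fun y => (LinearMap.congr_fun hι y).symm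
    simp only [LinearMap.sub_apply, LinearMap.add_apply, LinearMap.comp_apply, LinearMap.id_apply,
      map_sub, e]
    abel]
  exact (hT.comp_right p).add (hfin.comp_left _)

/-- The residue does not see a change of lattice of finite codimension. -/
theorem IsTRes.congr_lattice {ι' : M' →ₗ[k] V} (hι'i : Function.Injective ι') (hfg : f ∘ₗ g = g ∘ₗ f)
    {j : M →ₗ[k] M'} (hj : Function.Injective j) (hι : ι' ∘ₗ j = ι)
    [FiniteDimensional k (M' ⧸ LinearMap.range j)] {r : k} (h : IsTRes ι f g r) : IsTRes ι' f g r := by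
  obtain ⟨T, S, hT, hS, hr⟩ := h
  obtain ⟨p, hp⟩ := j.exists_leftInverse_of_injective (LinearMap.ker_eq_bot.mpr hj)
  have hfin : FinRank (LinearMap.id - j ∘ₗ p) := finRank_of_vanish (LinearMap.range j) _ (by
    rintro _ ⟨x, rfl⟩
    simp [show p (j x) = x from LinearMap.congr_fun hp x])
  refine ⟨_, _, hT.superlattice hι hfin, hS.superlattice hι hfin, ?_⟩
  have hX : FinRank (T ∘ₗ S - S ∘ₗ T) :=
    finRank_commutator (by rw [← hι]; exact hι'i.comp hj) hfg hT hS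
  rw [show (j ∘ₗ T ∘ₗ p) ∘ₗ (j ∘ₗ S ∘ₗ p) - (j ∘ₗ S ∘ₗ p) ∘ₗ (j ∘ₗ T ∘ₗ p) =
      (j ∘ₗ (T ∘ₗ S - S ∘ₗ T)) ∘ₗ p by
    refine LinearMap.ext fun x => ?_
    have hpj : ∀ y, p (j y) = y := LinearMap.congr_fun hp
    simp only [LinearMap.comp_apply, LinearMap.sub_apply, hpj, map_sub],
    ftr_comm (hX.comp_left j) p, ← LinearMap.comp_assoc, hp, LinearMap.id_comp, hr]

/-- Transport along isomorphisms. -/
theorem IsTRes.equiv {V' : Type*} [AddCommGroup V'] [Module k V'] {ι' : M' →ₗ[k] V'} {f' g' : V' →ₗ[k] V'}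
    (e : M ≃ₗ[k] M') (E : V ≃ₗ[k] V') (hι : ι' ∘ₗ e.toLinearMap = E.toLinearMap ∘ₗ ι)
    (hι'i : Function.Injective ι') (hcomm : f' ∘ₗ g' = g' ∘ₗ f')
    (hf : f' ∘ₗ E.toLinearMap = E.toLinearMap ∘ₗ f) (hg : g' ∘ₗ E.toLinearMap = E.toLinearMap ∘ₗ g)
    {r : k} (h : IsTRes ι f g r) : IsTRes ι' f' g' r := by
  obtain ⟨T, S, hT, hS, hr⟩ := h
  have hl : ∀ {f : V →ₗ[k] V} {f' : V' →ₗ[k] V'} {T : M →ₗ[k] M}, f' ∘ₗ E.toLinearMap = E.toLinearMap ∘ₗ f →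
      IsLift ι f T → IsLift ι' f' (e.toLinearMap ∘ₗ T ∘ₗ e.symm.toLinearMap) := by
    intro f f' T hf hT
    show FinRank _
    rw [show f' ∘ₗ ι' - ι' ∘ₗ (e.toLinearMap ∘ₗ T ∘ₗ e.symm.toLinearMap) =
        (E.toLinearMap ∘ₗ (f ∘ₗ ι - ι ∘ₗ T)) ∘ₗ e.symm.toLinearMap by
      refine LinearMap.ext fun x => ?_
      have h1 : ∀ y, ι' (e y) = E (ι y) := fun y => LinearMap.congr_fun hι y
      have h2 : ∀ y, f' (E y) = E (f y) := fun y => LinearMap.congr_fun hf y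
      obtain ⟨y, rfl⟩ := e.surjective x
      simp only [LinearMap.sub_apply, LinearMap.comp_apply, LinearEquiv.coe_coe,
        LinearEquiv.symm_apply_apply, map_sub, h1, h2]]
    exact (hT.comp_left _).comp_right _
  refine ⟨_, _, hl hf hT, hl hg hS, ?_⟩
  have hinj : Function.Injective ι := fun a b hab => by
    have h1 : ∀ y, ι' (e y) = E (ι y) := fun y => LinearMap.congr_fun hι y
    exact e.injective (hι'i (by rw [h1, h1, hab]))
  rw [show (e.toLinearMap ∘ₗ T ∘ₗ e.symm.toLinearMap) ∘ₗ (e.toLinearMap ∘ₗ S ∘ₗ e.symm.toLinearMap) -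
      (e.toLinearMap ∘ₗ S ∘ₗ e.symm.toLinearMap) ∘ₗ (e.toLinearMap ∘ₗ T ∘ₗ e.symm.toLinearMap) =
      (e.toLinearMap ∘ₗ (T ∘ₗ S - S ∘ₗ T)) ∘ₗ e.symm.toLinearMap by
    refine LinearMap.ext fun x => ?_
    simp only [LinearMap.comp_apply, LinearMap.sub_apply, LinearEquiv.coe_coe,
      LinearEquiv.symm_apply_apply, map_sub]]
  have hfg : f ∘ₗ g = g ∘ₗ f := LinearMap.ext fun v => E.injective (by
    have h2 : ∀ y, f' (E y) = E (f y) := fun y => LinearMap.congr_fun hf y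
    have h3 : ∀ y, g' (E y) = E (g y) := fun y => LinearMap.congr_fun hg y
    have h4 := LinearMap.congr_fun hcomm (E v)
    simp only [LinearMap.comp_apply, h2, h3] at h4
    exact h4)
  rw [ftr_comm ((finRank_commutator hinj hfg hT hS).comp_left _) _, ← LinearMap.comp_assoc,
    show e.symm.toLinearMap ∘ₗ e.toLinearMap = LinearMap.id from LinearMap.ext fun x => e.symm_apply_apply x,
    LinearMap.id_comp, hr]

section Pi

variable {I : Type*} [Fintype I] [DecidableEq I] {N : I → Type*} [∀ i, AddCommGroup (N i)] [∀ i, Module k (N i)]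
  {W : I → Type*} [∀ i, AddCommGroup (W i)] [∀ i, Module k (W i)]
  (ιs : ∀ i, N i →ₗ[k] W i) {fs gs : ∀ i, W i →ₗ[k] W i}

/-- The componentwise map. -/
def piMap' {X Y : I → Type*} [∀ i, AddCommGroup (X i)] [∀ i, Module k (X i)] [∀ i, AddCommGroup (Y i)]
    [∀ i, Module k (Y i)] (h : ∀ i, X i →ₗ[k] Y i) : (∀ i, X i) →ₗ[k] (∀ i, Y i) :=
  LinearMap.pi fun i => h i ∘ₗ LinearMap.proj i

omit [Fintype I] [DecidableEq I] in
theorem piMap'_apply {X Y : I → Type*} [∀ i, AddCommGroup (X i)] [∀ i, Module k (X i)] [∀ i, AddCommGroup (Y i)]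
    [∀ i, Module k (Y i)] (h : ∀ i, X i →ₗ[k] Y i) (x : ∀ i, X i) (i : I) : piMap' h x i = h i (x i) := rfl

theorem piMap'_eq_sum {X Y : I → Type*} [∀ i, AddCommGroup (X i)] [∀ i, Module k (X i)] [∀ i, AddCommGroup (Y i)]
    [∀ i, Module k (Y i)] (h : ∀ i, X i →ₗ[k] Y i) :
    piMap' h = ∑ i, (LinearMap.single k Y i ∘ₗ h i) ∘ₗ LinearMap.proj i := by
  refine LinearMap.ext fun x => funext fun i => ?_
  rw [LinearMap.sum_apply, Finset.sum_apply, Finset.sum_eq_single i]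
  · simp [piMap'_apply]
  · intro b _ hb; simp [hb.symm]
  · simp

theorem finRank_piMap' {X Y : I → Type*} [∀ i, AddCommGroup (X i)] [∀ i, Module k (X i)] [∀ i, AddCommGroup (Y i)]
    [∀ i, Module k (Y i)] {h : ∀ i, X i →ₗ[k] Y i} (hh : ∀ i, FinRank (h i)) : FinRank (piMap' h) := by
  rw [piMap'_eq_sum]
  exact finRank_sum _ fun i _ => ((hh i).comp_left _).comp_right _

theorem IsLift.piMap {Ts : ∀ i, N i →ₗ[k] N i} (hT : ∀ i, IsLift (ιs i) (fs i) (Ts i)) :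
    IsLift (piMap' ιs) (piMap' fs) (piMap' Ts) := by
  show FinRank _
  rw [show piMap' fs ∘ₗ piMap' ιs - piMap' ιs ∘ₗ piMap' Ts =
    piMap' (fun i => fs i ∘ₗ ιs i - ιs i ∘ₗ Ts i) from rfl]
  exact finRank_piMap' hT

/-- Residues of products add up. -/
theorem IsTRes.piMap (hι : ∀ i, Function.Injective (ιs i)) (hfg : ∀ i, fs i ∘ₗ gs i = gs i ∘ₗ fs i)
    {r : I → k} (h : ∀ i, IsTRes (ιs i) (fs i) (gs i) (r i)) :
    IsTRes (piMap' ιs) (piMap' fs) (piMap' gs) (∑ i, r i) := by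
  choose T S hT hS hr using h
  refine ⟨piMap' T, piMap' S, IsLift.piMap ιs hT, IsLift.piMap ιs hS, ?_⟩
  have hX : ∀ i, FinRank (T i ∘ₗ S i - S i ∘ₗ T i) := fun i => finRank_commutator (hι i) (hfg i) (hT i) (hS i)
  rw [show piMap' T ∘ₗ piMap' S - piMap' S ∘ₗ piMap' T = piMap' (fun i => T i ∘ₗ S i - S i ∘ₗ T i) from rfl,
    piMap'_eq_sum, ftr_sum _ fun i _ => ((hX i).comp_left _).comp_right _]
  refine Finset.sum_congr rfl fun i _ => ?_
  rw [ftr_comm ((hX i).comp_left _) _, ← LinearMap.comp_assoc, LinearMap.proj_comp_single_same,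
    LinearMap.id_comp, hr]

end Pi

/-- A dense diagonal: the residue on the trace of a lattice equals the residue on the lattice. -/
theorem IsTRes.of_dense {V' : Type*} [AddCommGroup V'] [Module k V'] {ι' : M' →ₗ[k] V'}
    {D : V →ₗ[k] V'} (hι'i : Function.Injective ι') (hD : Function.Injective D)
    (hιi : Function.Injective ι) {f' g' : V' →ₗ[k] V'} (hcomm : f' ∘ₗ g' = g' ∘ₗ f')
    (hf : f' ∘ₗ D = D ∘ₗ f) (hg : g' ∘ₗ D = D ∘ₗ g) {j : M →ₗ[k] M'} (hι : ι' ∘ₗ j = D ∘ₗ ι)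
    (hdense : LinearMap.range D ⊔ LinearMap.range ι' = ⊤)
    (hcap : ∀ v m', D v = ι' m' → m' ∈ LinearMap.range j)
    {r : k} (h : IsTRes ι' f' g' r) : IsTRes ι f g r := by
  obtain ⟨T₀, S₀, hT₀, hS₀, hr⟩ := h
  set mk := (LinearMap.range ι').mkQ
  have hsurj : LinearMap.range (mk ∘ₗ D) = ⊤ := by
    refine top_le_iff.mp fun q _ => ?_
    obtain ⟨v', rfl⟩ := Submodule.mkQ_surjective (LinearMap.range ι') q
    obtain ⟨a, ⟨v, rfl⟩, b, hb, rfl⟩ := Submodule.mem_sup.mp (hdense ▸ (Submodule.mem_top : v' ∈ ⊤))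
    refine ⟨v, (Submodule.Quotient.eq _).mpr ?_⟩
    rw [sub_add_cancel_left]
    exact Submodule.neg_mem _ hb
  obtain ⟨ρ, hρ⟩ := (mk ∘ₗ D).exists_rightInverse_of_surjective hsurj
  -- corrected lifts
  have key : ∀ {h' : V' →ₗ[k] V'} {T₀ : M' →ₗ[k] M'}, IsLift ι' h' T₀ →
      ∃ T' : M' →ₗ[k] M', IsLift ι' h' T' ∧
        ∀ a, ι' (T' a) = h' (ι' a) - D (ρ (mk (h' (ι' a)))) := by
    intro h' T₀ h0
    have hmem : ∀ a, h' (ι' a) - D (ρ (mk (h' (ι' a)))) ∈ LinearMap.range ι' := fun a => by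
      rw [← Submodule.Quotient.mk_eq_zero]
      show mk _ = 0
      rw [map_sub]
      exact sub_eq_zero.mpr (LinearMap.congr_fun hρ (mk (h' (ι' a)))).symm
    let T' : M' →ₗ[k] M' := (LinearEquiv.ofInjective ι' hι'i).symm.toLinearMap ∘ₗ
      (h' ∘ₗ ι' - D ∘ₗ ρ ∘ₗ mk ∘ₗ h' ∘ₗ ι').codRestrict _ hmem
    have hT' : ∀ a, ι' (T' a) = h' (ι' a) - D (ρ (mk (h' (ι' a)))) := fun a => by
      show ι' ((LinearEquiv.ofInjective ι' hι'i).symm _) = _
      exact LinearEquiv.ofInjective_symm_apply (h := hι'i) _ _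
    refine ⟨T', ?_, hT'⟩
    show FinRank _
    rw [show h' ∘ₗ ι' - ι' ∘ₗ T' = (D ∘ₗ ρ ∘ₗ mk) ∘ₗ (h' ∘ₗ ι' - ι' ∘ₗ T₀) by
      refine LinearMap.ext fun a => ?_
      simp only [LinearMap.sub_apply, LinearMap.comp_apply, hT', sub_sub_cancel, map_sub]
      rw [show mk (ι' (T₀ a)) = 0 from (Submodule.Quotient.mk_eq_zero _).mpr ⟨_, rfl⟩, map_zero, map_zero,
        sub_zero]]
    exact h0.comp_left _
  obtain ⟨T', hT', hT'e⟩ := key hT₀
  obtain ⟨S', hS', hS'e⟩ := key hS₀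
  have hjinj : Function.Injective j := fun a b hab => hιi (hD (by
    have e : ∀ y, ι' (j y) = D (ι y) := fun y => LinearMap.congr_fun hι y
    rw [← e, ← e, hab]))
  have hlift : ∀ {h : V →ₗ[k] V} {h' : V' →ₗ[k] V'} {T' : M' →ₗ[k] M'}, h' ∘ₗ D = D ∘ₗ h →
      IsLift ι' h' T' → (∀ a, ι' (T' a) = h' (ι' a) - D (ρ (mk (h' (ι' a))))) →
      ∃ T : M →ₗ[k] M, T' ∘ₗ j = j ∘ₗ T ∧ IsLift ι h T := by
    intro h h' T' hh hl he
    have e : ∀ y, ι' (j y) = D (ι y) := fun y => LinearMap.congr_fun hι y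
    have eh : ∀ y, h' (D y) = D (h y) := fun y => LinearMap.congr_fun hh y
    have hmem : ∀ z, T' (j z) ∈ LinearMap.range j := fun z =>
      hcap (h (ι z) - ρ (mk (h' (ι' (j z))))) _ (by rw [map_sub, he, e, eh])
    let T : M →ₗ[k] M := (LinearEquiv.ofInjective j hjinj).symm.toLinearMap ∘ₗ (T' ∘ₗ j).codRestrict _ hmem
    have hT : ∀ z, j (T z) = T' (j z) := fun z => LinearEquiv.ofInjective_symm_apply (h := hjinj) _ _
    refine ⟨T, LinearMap.ext fun z => (hT z).symm, FinRank.of_comp hD ?_⟩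
    rw [show D ∘ₗ (h ∘ₗ ι - ι ∘ₗ T) = (h' ∘ₗ ι' - ι' ∘ₗ T') ∘ₗ j by
      refine LinearMap.ext fun z => ?_
      simp only [LinearMap.comp_apply, LinearMap.sub_apply, map_sub]
      rw [← eh, ← e, ← e (T z), hT]]
    exact hl.comp_right j
  obtain ⟨T, hTj, hT⟩ := hlift hf hT' hT'e
  obtain ⟨S, hSj, hS⟩ := hlift hg hS' hS'e
  refine ⟨T, S, hT, hS, ?_⟩
  have hr' : ftr (T' ∘ₗ S' - S' ∘ₗ T') = r :=
    IsTRes.eq_ftr hι'i hcomm ⟨T₀, S₀, hT₀, hS₀, hr⟩ hT' hS'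
  rw [← hr']
  refine (ftr_restrict hjinj (finRank_commutator hι'i hcomm hT' hS') ?_ fun a => ?_).symm
  · rw [LinearMap.sub_comp, LinearMap.comp_sub, LinearMap.comp_assoc, LinearMap.comp_assoc, hSj, hTj,
      ← LinearMap.comp_assoc, ← LinearMap.comp_assoc, hSj, hTj, LinearMap.comp_assoc, LinearMap.comp_assoc]
  · have eh : ∀ y, f' (D y) = D (f y) := fun y => LinearMap.congr_fun hf y
    have eg : ∀ y, g' (D y) = D (g y) := fun y => LinearMap.congr_fun hg y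
    have ec : f' (g' (ι' a)) = g' (f' (ι' a)) := LinearMap.congr_fun hcomm (ι' a)
    refine hcap (-f (ρ (mk (g' (ι' a)))) - ρ (mk (f' (ι' (S' a)))) + g (ρ (mk (f' (ι' a)))) +
      ρ (mk (g' (ι' (T' a))))) _ ?_
    simp only [LinearMap.sub_apply, LinearMap.comp_apply, map_sub]
    rw [hT'e (S' a), hS'e (T' a)]
    simp only [map_add, map_sub, map_neg, ← eh, ← eg]
    rw [hS'e a, hT'e a]
    simp only [map_sub]
    rw [ec]
    abel

end Groth.Agent.FFLib
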